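/-
Abelian Sylow 2-subgroups of PSL(2,q), q odd, and the 2-automorphisms centralising one.
-/
import Mathlib
import Cfsg.Agent.Lib.PSL2.Out
import Cfsg.Agent.Lib.SLCard

set_option autoImplicit false
set_option linter.style.haveILetI false
set_option linter.unusedSectionVars false

namespace CfsgLib.JankoReeMult

open Matrix
open scoped MatrixGroups

universe u

/-- In a nonabelian simple group an element of an abelian Sylow subgroup is moved by the normaliser. -/
theorem exists_moved {G : Type u} [Group G] [Finite G] [IsSimpleGroup G] (hG : ¬ IsMulCommutative G) {p : ℕ}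
    [Fact p.Prime] (P : Sylow p G) (hP : IsMulCommutative (P : Subgroup G)) {x : G} (hx : x ∈ P) (hx1 : x ≠ 1) :
    ∃ n ∈ Subgroup.normalizer ((P : Subgroup G) : Set G), n * x * n⁻¹ ≠ x := by
  by_contra hcon
  push Not at hcon
  haveI := hP
  letI : CommGroup (P : Subgroup G) := { (inferInstance : Group (P : Subgroup G)) with
    mul_comm := fun a b => (IsMulCommutative.is_comm (M := (P : Subgroup G))).comm a b }
  have key : ∀ (k : ℕ) (g₀ : G), g₀⁻¹ * x ^ k * g₀ ∈ (P : Subgroup G) → g₀⁻¹ * x ^ k * g₀ = x ^ k := by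
    intro k g₀ h
    obtain ⟨n, hn, he⟩ := P.conj_eq_normalizer_conj_of_mem (x ^ k) g₀ (pow_mem hx k) h
    rw [he, conj_pow_aux n x k (hcon n⁻¹ (inv_mem hn))]
  set φ := MonoidHom.transfer (MonoidHom.id (P : Subgroup G)) with hφ
  have hev : φ x = ⟨x ^ (P : Subgroup G).index, MonoidHom.transfer_eq_pow_aux x key⟩ := by
    rw [hφ, MonoidHom.transfer_eq_pow _ x key]
    rfl
  rcases φ.normal_ker.eq_bot_or_eq_top with h | h
  · exact hG ⟨⟨fun a b => φ.ker_eq_bot_iff.mp h (by rw [map_mul, map_mul, mul_comm])⟩⟩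
  · have h1 : φ x = 1 := MonoidHom.mem_ker.mp (h ▸ Subgroup.mem_top x)
    rw [hev] at h1
    have h2 : x ^ (P : Subgroup G).index = 1 := congrArg Subtype.val h1
    have hd := orderOf_dvd_of_pow_eq_one h2
    obtain ⟨k, hk⟩ := P.2 ⟨x, hx⟩
    have hk' : orderOf x ∣ p ^ k := orderOf_dvd_of_pow_eq_one (congrArg Subtype.val hk)
    obtain ⟨j, -, hj⟩ := (Nat.dvd_prime_pow Fact.out).mp hk'
    rcases Nat.eq_zero_or_pos j with hj0 | hj0
    · exact hx1 (orderOf_eq_one_iff.mp (by rw [hj, hj0, pow_zero]))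
    · exact P.not_dvd_index ((dvd_pow_self p hj0.ne').trans (hj ▸ hd))
where
  conj_pow_aux {G : Type u} [Group G] (n x : G) (k : ℕ) (h : n⁻¹ * x * n⁻¹⁻¹ = x) :
      n⁻¹ * x ^ k * n = x ^ k := by
    rw [inv_inv] at h
    have h2 : Commute n x := by
      show n * x = x * n
      calc n * x = n * (n⁻¹ * x * n) := by rw [h]
        _ = x * n := by group
    rw [mul_assoc, ← (h2.pow_right k).eq, ← mul_assoc, inv_mul_cancel, one_mul]

variable {F : Type u} [Field F]

local notation "SL" => Matrix.SpecialLinearGroup (Fin 2) F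
local notation "PSL" => Matrix.ProjectiveSpecialLinearGroup (Fin 2) F
local notation "M2" => Matrix (Fin 2) (Fin 2) F

/-- Two by two: the commutant of an invertible trace-zero matrix is spanned by it and one. -/
theorem commutant (h2 : (2 : F) ≠ 0) (A M : M2) (hA : A * A = -1) (htr : A 0 0 + A 1 1 = 0) (hc : M * A = A * M) :
    ∃ x y : F, M = x • (1 : M2) + y • A := by
  set x : F := (M 0 0 + M 1 1) / 2
  set y : F := -((M * A) 0 0 + (M * A) 1 1) / 2
  set D : M2 := M - x • (1 : M2) - y • A with hD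
  have htA : (A * A) 0 0 + (A * A) 1 1 = -2 := by rw [hA]; simp [Matrix.one_apply_eq]; ring
  have hx2 : x * 2 = M 0 0 + M 1 1 := by simp only [x]; field_simp
  have hy2 : y * 2 = -((M * A) 0 0 + (M * A) 1 1) := by simp only [y]; field_simp
  clear_value x y
  have hD0 : D 0 0 + D 1 1 = 0 := by
    simp [hD]
    linear_combination (-y) * htr - hx2
  have hDA : (D * A) 0 0 + (D * A) 1 1 = 0 := by
    have : D * A = M * A - x • A - y • (A * A) := by rw [hD, sub_mul, sub_mul, smul_mul_assoc, smul_mul_assoc, one_mul]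
    rw [this]
    simp only [Matrix.sub_apply, Matrix.smul_apply, smul_eq_mul]
    linear_combination (-x) * htr - y * htA + hy2
  have hcD : D * A = A * D := by
    rw [hD, sub_mul, sub_mul, mul_sub, mul_sub, hc, smul_mul_assoc, smul_mul_assoc, mul_smul_comm, mul_smul_comm,
      one_mul, mul_one]
  have hanti : D * A + A * D = ((D * A) 0 0 + (D * A) 1 1) • (1 : M2) := by
    have e1 : D 1 1 = -D 0 0 := by linear_combination hD0
    have e2 : A 1 1 = -A 0 0 := by linear_combination htr
    ext i j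
    fin_cases i <;> fin_cases j <;>
      simp [Matrix.mul_apply, Fin.sum_univ_two, e1, e2] <;> ring
  rw [hDA, zero_smul, ← hcD, ← two_smul F (D * A)] at hanti
  have hDA0 : D * A = 0 := (smul_eq_zero.mp hanti).resolve_left h2
  have hD00 : D = 0 := by
    have h := congrArg (fun X => X * A) hDA0
    simp only [zero_mul, mul_assoc, hA, mul_neg, mul_one, neg_eq_zero] at h
    exact h
  refine ⟨x, y, ?_⟩
  rw [hD, sub_sub, sub_eq_zero] at hD00
  exact hD00

open CfsgLib.PSL2 (mk mk_eq_mk diagAut diagAut_apply diagAut_toGL diagAut_scalar coe_conjSL fieldPart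
  exists_of_fieldPart_eq_one)

/-- An involution of PSL(2) lifts to a matrix of trace zero squaring to minus one. -/
theorem involution_lift (h2 : (2 : F) ≠ 0) (A : SL) (hA : (mk A : PSL) ≠ 1) (hA2 : (mk A : PSL) * mk A = 1) :
    A.1 * A.1 = -1 ∧ A.1 0 0 + A.1 1 1 = 0 := by
  have hdet : A.1 0 0 * A.1 1 1 - A.1 0 1 * A.1 1 0 = 1 := by rw [← Matrix.det_fin_two]; exact A.2
  have hCH : A.1 * A.1 = (A.1 0 0 + A.1 1 1) • A.1 - 1 := by
    ext i j
    fin_cases i <;> fin_cases j <;> simp [Matrix.mul_apply, Fin.sum_univ_two] <;>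
      first | linear_combination (-1 : F) * hdet | ring
  have h1 : A.1 * A.1 = 1 ∨ A.1 * A.1 = -1 := by
    rw [← map_mul, ← map_one (mk : SL →* PSL)] at hA2
    rcases mk_eq_mk.mp hA2.symm with h | h
    · exact Or.inl h
    · exact Or.inr h
  set s : F := A.1 0 0 + A.1 1 1
  have hns : ∀ r : F, A.1 ≠ r • 1 := by
    intro r hr
    apply hA
    rw [← map_one (mk : SL →* PSL), mk_eq_mk]
    have hd := A.2
    rw [hr, Matrix.det_smul, Matrix.det_one, mul_one, Fintype.card_fin, sq_eq_one_iff] at hd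
    rcases hd with e | e
    · exact Or.inl (by rw [hr, e, one_smul]; rfl)
    · exact Or.inr (by rw [hr, e, neg_one_smul, neg_neg]; rfl)
  rcases h1 with h | h
  · exfalso
    have h3 : s • A.1 = (2 : F) • (1 : M2) := by
      rw [hCH] at h
      rw [two_smul]
      exact sub_eq_iff_eq_add.mp h
    by_cases hs : s = 0
    · rw [hs, zero_smul] at h3
      exact h2 (by simpa using congrFun (congrFun h3.symm 0) 0)
    · refine hns (s⁻¹ * 2) ?_
      rw [mul_smul, ← h3, smul_smul, inv_mul_cancel₀ hs, one_smul]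
  · refine ⟨h, ?_⟩
    rw [hCH] at h
    have h3 : s • A.1 = 0 := by simpa using h
    exact (smul_eq_zero.mp h3).resolve_right fun h0 => hns 0 (by rw [h0, zero_smul])

/-- Commuting distinct involutions lift to anticommuting matrices. -/
theorem anticomm (h2 : (2 : F) ≠ 0) (A B : SL) (hA : (mk A : PSL) ≠ 1) (hA2 : (mk A : PSL) * mk A = 1)
    (hB : (mk B : PSL) ≠ 1) (hB2 : (mk B : PSL) * mk B = 1) (hne : (mk A : PSL) ≠ mk B)
    (hc : (mk A : PSL) * mk B = mk B * mk A) : B.1 * A.1 = -(A.1 * B.1) := by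
  obtain ⟨a1, a2⟩ := involution_lift h2 A hA hA2
  obtain ⟨b1, b2⟩ := involution_lift h2 B hB hB2
  rw [← map_mul, ← map_mul] at hc
  rcases mk_eq_mk.mp hc with h | h
  · exfalso
    obtain ⟨x, y, hxy⟩ := commutant h2 A.1 B.1 a1 a2 h
    have hx : x = 0 := by
      rw [hxy] at b2
      simp at b2
      have : x * 2 = 0 := by linear_combination b2 - y * a2
      exact (mul_eq_zero.mp this).resolve_right h2
    rw [hx, zero_smul, zero_add] at hxy
    rw [hxy, smul_mul_assoc, mul_smul_comm, smul_smul, a1] at b1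
    have hy : y * y = 1 := by simpa using congrFun (congrFun b1 0) 0
    rcases mul_self_eq_one_iff.mp hy with e | e
    · exact hne (mk_eq_mk.mpr (Or.inl (by rw [hxy, e, one_smul])))
    · exact hne (mk_eq_mk.mpr (Or.inr (by rw [hxy, e, neg_one_smul])))
  · exact h

/-- A linear substitution fixing two commuting involutions acts as an element of their four-group. -/
theorem diag_of_fix (h2 : (2 : F) ≠ 0) (A B : SL) (hA : (mk A : PSL) ≠ 1) (hA2 : (mk A : PSL) * mk A = 1)
    (hB : (mk B : PSL) ≠ 1) (hB2 : (mk B : PSL) * mk B = 1) (hne : (mk A : PSL) ≠ mk B)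
    (hc : (mk A : PSL) * mk B = mk B * mk A) (g : GL (Fin 2) F) (fA : diagAut g (mk A) = mk A)
    (fB : diagAut g (mk B) = mk B) :
    ∃ w ∈ Subgroup.closure ({mk A, mk B} : Set PSL), diagAut g = MulAut.conj w := by
  obtain ⟨a1, a2⟩ := involution_lift h2 A hA hA2
  obtain ⟨b1, b2⟩ := involution_lift h2 B hB hB2
  have hanti := anticomm h2 A B hA hA2 hB hB2 hne hc
  have sgn : ∀ X : SL, diagAut g (mk X) = mk X → g.1 * X.1 = X.1 * g.1 ∨ g.1 * X.1 = -(X.1 * g.1) := by
    intro X hX
    rw [diagAut_apply, mk_eq_mk, coe_conjSL] at hX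
    have key : g.1 * X.1 * (g⁻¹).1 * g.1 = g.1 * X.1 := by
      rw [mul_assoc, ← Units.val_mul, inv_mul_cancel, Units.val_one, mul_one]
    rcases hX with h | h
    · left
      conv_rhs => rw [h]
      exact key.symm
    · right
      conv_rhs => rw [h]
      rw [neg_mul, key, neg_neg]
  -- an element with prescribed signs
  have key : ∃ W : SL, (mk W : PSL) ∈ Subgroup.closure ({mk A, mk B} : Set PSL) ∧
      (g.1 * W.1) * A.1 = A.1 * (g.1 * W.1) ∧ (g.1 * W.1) * B.1 = B.1 * (g.1 * W.1) := by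
    have mA : (mk A : PSL) ∈ Subgroup.closure ({mk A, mk B} : Set PSL) := Subgroup.subset_closure (by simp)
    have mB : (mk B : PSL) ∈ Subgroup.closure ({mk A, mk B} : Set PSL) := Subgroup.subset_closure (by simp)
    have hAB : A.1 * B.1 = -(B.1 * A.1) := by rw [hanti, neg_neg]
    rcases sgn A fA with ea | ea <;> rcases sgn B fB with eb | eb
    · exact ⟨1, by rw [map_one]; exact one_mem _, by simpa using ea, by simpa using eb⟩
    · refine ⟨A, mA, by rw [ea, mul_assoc, ← ea], ?_⟩
      rw [mul_assoc, hAB, mul_neg, ← mul_assoc, eb, neg_mul, neg_neg, mul_assoc]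
    · refine ⟨B, mB, ?_, by rw [eb, mul_assoc, ← eb]⟩
      rw [mul_assoc, hanti, mul_neg, ← mul_assoc, ea, neg_mul, neg_neg, mul_assoc]
    · refine ⟨A * B, by rw [map_mul]; exact mul_mem mA mB, ?_, ?_⟩
      · show g.1 * (A.1 * B.1) * A.1 = A.1 * (g.1 * (A.1 * B.1))
        calc g.1 * (A.1 * B.1) * A.1 = g.1 * (A.1 * (B.1 * A.1)) := by noncomm_ring
          _ = -(g.1 * A.1) * (A.1 * B.1) := by rw [hanti]; noncomm_ring
          _ = A.1 * (g.1 * (A.1 * B.1)) := by rw [ea, neg_neg]; noncomm_ring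
      · show g.1 * (A.1 * B.1) * B.1 = B.1 * (g.1 * (A.1 * B.1))
        calc g.1 * (A.1 * B.1) * B.1 = g.1 * (A.1 * B.1 * B.1) := by noncomm_ring
          _ = -(g.1 * (B.1 * A.1 * B.1)) := by rw [hanti]; noncomm_ring
          _ = -(g.1 * B.1) * (A.1 * B.1) := by noncomm_ring
          _ = B.1 * (g.1 * (A.1 * B.1)) := by rw [eb, neg_neg]; noncomm_ring
  obtain ⟨W, hW, cA, cB⟩ := key
  obtain ⟨x, y, hxy⟩ := commutant h2 A.1 (g.1 * W.1) a1 a2 cA
  have hy : y = 0 := by
    rw [hxy, add_mul, mul_add, smul_mul_assoc, smul_mul_assoc, mul_smul_comm, mul_smul_comm, one_mul, mul_one,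
      hanti, add_right_inj, smul_neg] at cB
    have h3 : (2 * y) • (A.1 * B.1) = 0 := by
      rw [mul_smul, two_smul]
      nth_rewrite 1 [cB]
      exact neg_add_cancel _
    have hne0 : A.1 * B.1 ≠ 0 := fun h0 => by
      have := congrArg (fun X => A.1 * X * B.1) h0
      simp only [← mul_assoc, a1, neg_mul, one_mul, b1, neg_neg, mul_zero, zero_mul] at this
      exact one_ne_zero this
    exact (mul_eq_zero.mp ((smul_eq_zero.mp h3).resolve_right hne0)).resolve_left h2
  rw [hy, zero_smul, add_zero] at hxy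
  refine ⟨(mk W)⁻¹, inv_mem hW, ?_⟩
  have hsc : (g * SpecialLinearGroup.toGL W).1 = Matrix.scalar (Fin 2) x := by
    rw [Units.val_mul, show (SpecialLinearGroup.toGL W).1 = W.1 from rfl, hxy, Matrix.scalar_apply]
    ext i j
    by_cases hij : i = j <;> simp [hij]
  have h1 := diagAut_scalar _ x hsc
  rw [map_mul, diagAut_toGL] at h1
  rw [map_inv]
  exact eq_inv_of_mul_eq_one_left h1

variable [Fintype F]

theorem two_ne (hF : Odd (Fintype.card F)) : (2 : F) ≠ 0 :=
  Ring.two_ne_zero fun h2 =>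
    Nat.not_even_iff_odd.mpr hF (even_iff_two_dvd.mpr (Nat.dvd_of_mod_eq_zero
      (FiniteField.even_card_iff_char_two.mp h2)))

theorem psl_simple (h3 : 3 < Fintype.card F) : IsSimpleGroup PSL :=
  Matrix.ProjectiveSpecialLinearGroup.rank_two_simple (by rw [Nat.card_eq_fintype_card]; omega)

theorem psl_nonabelian (hF : Odd (Fintype.card F)) (h3 : 3 < Fintype.card F) : ¬ IsMulCommutative PSL := by
  intro h
  haveI := psl_simple (F := F) h3
  have hcard := CfsgLib.SLCard.gcd_mul_card_PSL (F := F) (n := 2) (by norm_num)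
  rw [CfsgLib.SLCard.card_SL_two] at hcard
  haveI := h
  letI : CommGroup PSL := { (inferInstance : Group PSL) with
    mul_comm := fun a b => (IsMulCommutative.is_comm (M := PSL)).comm a b }
  have hp : (Nat.card PSL).Prime := IsSimpleGroup.prime_card
  obtain ⟨k, hk⟩ := hF
  have hg : Nat.gcd 2 (Fintype.card F - 1) = 2 := Nat.gcd_eq_left ⟨k, by omega⟩
  rw [hg] at hcard
  have e : Fintype.card F ^ 2 - 1 = 2 * (2 * k * (k + 1)) := by
    rw [hk]
    have : (2 * k + 1) ^ 2 = 2 * (2 * k * (k + 1)) + 1 := by ring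
    omega
  rw [e] at hcard
  have hN : Nat.card PSL = Fintype.card F * (2 * k * (k + 1)) := by nlinarith
  have h2k : 2 ≤ 2 * k * (k + 1) := by nlinarith
  rw [hN] at hp
  exact Nat.not_prime_mul (by omega) (by omega) hp

/-- An abelian Sylow 2-subgroup of PSL(2,q), q odd: order four, exponent two, no fixed point under its normaliser. -/
theorem sylow_klein (hF : Odd (Fintype.card F)) (h3 : 3 < Fintype.card F) (P : Sylow 2 PSL)
    (hP : IsMulCommutative (P : Subgroup PSL)) :
    Nat.card (P : Subgroup PSL) = 4 ∧ (∀ x ∈ P, x * x = 1) ∧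
      ∀ x ∈ P, x ≠ 1 → ∃ n ∈ Subgroup.normalizer ((P : Subgroup PSL) : Set PSL), n * x * n⁻¹ ≠ x := by
  classical
  haveI : Fact (Nat.Prime 2) := ⟨Nat.prime_two⟩
  haveI := psl_simple (F := F) h3
  have hna := psl_nonabelian hF h3
  have h2 := two_ne hF
  have moved := fun x (hx : x ∈ P) (hx1 : x ≠ 1) => exists_moved hna P hP hx hx1
  have hdvd : 2 ∣ Nat.card PSL := by
    have hcard := CfsgLib.SLCard.gcd_mul_card_PSL (F := F) (n := 2) (by norm_num)
    rw [CfsgLib.SLCard.card_SL_two] at hcard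
    obtain ⟨k, hk⟩ := hF
    have e : Fintype.card F ^ 2 - 1 = 2 * (2 * (k * (k + 1))) := by
      rw [hk]
      have : (2 * k + 1) ^ 2 = 2 * (2 * (k * (k + 1))) + 1 := by ring
      omega
    rw [Nat.gcd_eq_left (show 2 ∣ Fintype.card F - 1 from ⟨k, by omega⟩), e] at hcard
    exact ⟨Fintype.card F * (k * (k + 1)), by nlinarith⟩
  have hP1 : 1 < Nat.card (P : Subgroup PSL) :=
    lt_of_lt_of_le one_lt_two (Nat.le_of_dvd Nat.card_pos (P.dvd_card_of_dvd_card hdvd))
  obtain ⟨a', ha'⟩ := exists_prime_orderOf_dvd_card' (G := (P : Subgroup PSL)) 2 (P.dvd_card_of_dvd_card hdvd)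
  set a : PSL := (a' : PSL)
  have hao : orderOf a = 2 := by rw [Subgroup.orderOf_coe, ha']
  have ha1 : a ≠ 1 := fun h => by simp [h] at hao
  have ha2 : a * a = 1 := by simpa [sq, hao] using pow_orderOf_eq_one a
  obtain ⟨n, hn, hne⟩ := moved a a'.2 ha1
  set b := n * a * n⁻¹ with hb
  have hbP : b ∈ P := (Subgroup.mem_normalizer_iff.mp hn a).mp a'.2
  have hb2 : b * b = 1 := by rw [hb]; calc n * a * n⁻¹ * (n * a * n⁻¹) = n * (a * a) * n⁻¹ := by group
                                       _ = 1 := by rw [ha2, mul_one, mul_inv_cancel]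
  have hb1 : b ≠ 1 := fun h => ha1 (by simpa [hb] using h)
  haveI := hP
  have hab : a * b = b * a := congrArg Subtype.val
    ((IsMulCommutative.is_comm (M := (P : Subgroup PSL))).comm a' ⟨b, hbP⟩)
  have hle : (P : Subgroup PSL) ≤ Subgroup.closure ({a, b} : Set PSL) := by
    intro x hx
    obtain ⟨A, hA⟩ := QuotientGroup.mk'_surjective _ a
    obtain ⟨B, hB⟩ := QuotientGroup.mk'_surjective _ b
    obtain ⟨X, hX⟩ := QuotientGroup.mk'_surjective _ x
    have fix : ∀ (Y : SL), mk Y ∈ P → diagAut (SpecialLinearGroup.toGL X) (mk Y) = mk Y := fun Y hY => by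
      rw [diagAut_toGL, MulAut.conj_apply]
      have := congrArg Subtype.val ((IsMulCommutative.is_comm (M := (P : Subgroup PSL))).comm
        ⟨mk X, by rw [show mk X = x from hX]; exact hx⟩ ⟨mk Y, hY⟩)
      simp only [Subgroup.coe_mul] at this
      rw [this, mul_inv_cancel_right]
    obtain ⟨w, hw, he⟩ := diag_of_fix h2 A B (show mk A ≠ 1 from hA ▸ ha1) (show mk A * mk A = 1 from hA ▸ ha2)
      (show mk B ≠ 1 from hB ▸ hb1) (show mk B * mk B = 1 from hB ▸ hb2)
      (show mk A ≠ mk B from by rw [show mk A = a from hA, show mk B = b from hB]; exact hne.symm)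
      (show mk A * mk B = mk B * mk A from by rw [show mk A = a from hA, show mk B = b from hB]; exact hab)
      (SpecialLinearGroup.toGL X) (fix A (by rw [show mk A = a from hA]; exact a'.2))
      (fix B (by rw [show mk B = b from hB]; exact hbP))
    rw [show mk A = a from hA, show mk B = b from hB] at hw
    rw [diagAut_toGL, show mk X = x from hX] at he
    have : w⁻¹ * x ∈ Subgroup.center PSL := Subgroup.mem_center_iff.mpr fun y => by
      have h := MulEquiv.congr_fun he y
      simp only [MulAut.conj_apply] at h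
      calc y * (w⁻¹ * x) = w⁻¹ * (w * y * w⁻¹) * x := by group
        _ = w⁻¹ * (x * y * x⁻¹) * x := by rw [h]
        _ = w⁻¹ * x * y := by group
    rcases (inferInstance : (Subgroup.center PSL).Normal).eq_bot_or_eq_top with hz | hz
    · rw [hz, Subgroup.mem_bot] at this
      rwa [← inv_mul_eq_one.mp this]
    · exact absurd ⟨⟨fun c d => Subgroup.mem_center_iff.mp (hz ▸ Subgroup.mem_top d) c⟩⟩ hna
  have hform : ∀ x ∈ Subgroup.closure ({a, b} : Set PSL), x = 1 ∨ x = a ∨ x = b ∨ x = a * b := by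
    intro x hx
    induction hx using Subgroup.closure_induction with
    | mem y hy => rcases hy with rfl | rfl <;> simp
    | one => simp
    | mul y z _ _ hy hz =>
      have e1 : a * (a * b) = b := by rw [← mul_assoc, ha2, one_mul]
      have e2 : a * b * b = a := by rw [mul_assoc, hb2, mul_one]
      have e3 : a * b * a = b := by rw [hab, mul_assoc, ha2, mul_one]
      have e4 : b * (a * b) = a := by rw [hab, ← mul_assoc, hb2, one_mul]
      have e5 : a * b * (a * b) = 1 := by rw [← mul_assoc, e3, hb2]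
      rcases hy with rfl | rfl | rfl | rfl <;> rcases hz with rfl | rfl | rfl | rfl <;>
        simp only [one_mul, mul_one, ha2, hb2, e1, e2, e3, e4, e5, ← hab, true_or, or_true]
    | inv y _ hy =>
      rcases hy with rfl | rfl | rfl | rfl
      · simp
      · rw [inv_eq_of_mul_eq_one_right ha2]; simp
      · rw [inv_eq_of_mul_eq_one_right hb2]; simp
      · rw [_root_.mul_inv_rev, inv_eq_of_mul_eq_one_right ha2, inv_eq_of_mul_eq_one_right hb2, ← hab]; simp
  have habne : a * b ≠ 1 ∧ a * b ≠ a ∧ a * b ≠ b := by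
    refine ⟨fun h => hne ?_, fun h => hb1 ?_, fun h => ha1 ?_⟩
    · exact ((mul_eq_one_iff_eq_inv.mp h).trans (inv_eq_of_mul_eq_one_right hb2)).symm
    · simpa using h
    · simpa using h
  have hset : ((P : Subgroup PSL) : Set PSL) = ↑({1, a, b, a * b} : Finset PSL) := by
    ext x
    simp only [SetLike.mem_coe, Finset.coe_insert, Finset.coe_singleton, Set.mem_insert_iff, Set.mem_singleton_iff]
    refine ⟨fun hx => hform x (hle hx), ?_⟩
    rintro (rfl | rfl | rfl | rfl)
    exacts [one_mem _, a'.2, hbP, mul_mem a'.2 hbP]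
  refine ⟨?_, fun x hx => ?_, moved⟩
  · rw [← SetLike.coe_sort_coe, hset, Nat.card_coe_set_eq, Set.ncard_coe_finset]
    have hne' : a ≠ b := fun h => hne h.symm
    simp [Finset.card_insert_of_notMem, ha1.symm, hb1.symm, habne.1.symm, hne', habne.2.1.symm, habne.2.2.symm]
  · rcases hform x (hle hx) with rfl | rfl | rfl | rfl
    · simp
    · exact ha2
    · exact hb2
    · calc a * b * (a * b) = a * (b * a) * b := by group
        _ = (a * a) * (b * b) := by rw [← hab]; group
        _ = 1 := by rw [ha2, hb2, one_mul]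

/-- With an abelian Sylow 2-subgroup, an automorphism of 2-power order centralising it is conjugation from it. -/
theorem auto_inner (hF : Odd (Fintype.card F)) (h3 : 3 < Fintype.card F) (P : Sylow 2 PSL)
    (hP : IsMulCommutative (P : Subgroup PSL)) (φ : MulAut PSL) (k : ℕ) (hk : φ ^ (2 ^ k) = 1)
    (hfix : ∀ x ∈ P, φ x = x) : ∃ v ∈ P, φ = MulAut.conj v := by
  classical
  haveI : Fact (Nat.Prime 2) := ⟨Nat.prime_two⟩
  obtain ⟨hc4, hsq, hmv⟩ := sylow_klein hF h3 P hP
  obtain ⟨p, hchar⟩ := CharP.exists F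
  obtain ⟨f, hpp, hpf⟩ := FiniteField.card F p
  haveI := Fact.mk hpp
  -- the degree is odd
  have hfodd : ¬ 2 ∣ (f : ℕ) := by
    rintro ⟨m, hm⟩
    rw [hpf, hm] at hF
    have hr : Odd (p ^ m) := by
      rw [pow_mul, ← pow_mul, mul_comm, pow_mul] at hF
      exact Nat.Odd.of_mul_left (n := p ^ m) (by rw [← sq]; exact hF)
    obtain ⟨j, hj⟩ := hr
    have hcard := CfsgLib.SLCard.gcd_mul_card_PSL (F := F) (n := 2) (by norm_num)
    rw [CfsgLib.SLCard.card_SL_two, hpf, hm, mul_comm 2 m, pow_mul, hj] at hcard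
    have e1 : (2 * j + 1) ^ 2 - 1 = 2 * (2 * (j * (j + 1))) := by
      have : (2 * j + 1) ^ 2 = 2 * (2 * (j * (j + 1))) + 1 := by ring
      omega
    rw [Nat.gcd_eq_left (show 2 ∣ (2 * j + 1) ^ 2 - 1 from ⟨_, e1⟩)] at hcard
    obtain ⟨i, hi⟩ := even_iff_two_dvd.mp (Nat.even_mul_succ_self j)
    have e2 : ((2 * j + 1) ^ 2) ^ 2 - 1 = 16 * (i * ((2 * j + 1) ^ 2 + 1) / 2) := by
      have h5 : (2 * j + 1) ^ 2 = 8 * i + 1 := by nlinarith
      rw [h5]
      have : (8 * i + 1) ^ 2 = 16 * (i * (4 * i + 1)) + 1 := by ring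
      have h6 : i * (8 * i + 1 + 1) / 2 = i * (4 * i + 1) := by
        rw [show i * (8 * i + 1 + 1) = i * (4 * i + 1) * 2 by ring, Nat.mul_div_cancel _ (by norm_num)]
      rw [h6]
      omega
    rw [e2] at hcard
    have h8 : 8 ∣ Nat.card PSL := ⟨(2 * j + 1) ^ 2 * (i * ((2 * j + 1) ^ 2 + 1) / 2), by linarith⟩
    have h8' := P.pow_dvd_card_of_pow_dvd_card (n := 3) (show 2 ^ 3 ∣ Nat.card PSL from h8)
    rw [hc4] at h8'
    norm_num at h8'
  have hfp : fieldPart p φ = 1 := by
    have h1 : (fieldPart p φ) ^ (2 ^ k) = 1 := by rw [← map_pow, hk, map_one]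
    have h2 := orderOf_dvd_of_pow_eq_one h1
    letI := ZMod.algebra F p
    set e : RingAut F := fieldPart p φ
    let ι : (F ≃ₐ[ZMod p] F) ≃* RingAut F :=
      { toFun := fun a => a.toRingEquiv
        invFun := fun r => AlgEquiv.ofRingEquiv (f := r) fun x =>
          RingHom.congr_fun (Subsingleton.elim (r.toRingHom.comp (algebraMap (ZMod p) F)) (algebraMap (ZMod p) F)) x
        left_inv := fun a => AlgEquiv.ext fun x => rfl
        right_inv := fun r => RingEquiv.ext fun x => rfl
        map_mul' := fun a b => RingEquiv.ext fun x => rfl }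
    have h3' : orderOf e ∣ (f : ℕ) := by
      have h4 : orderOf e ∣ Nat.card (RingAut F) := orderOf_dvd_natCard e
      rw [← Nat.card_congr ι.toEquiv, IsGalois.card_aut_eq_finrank] at h4
      have h5 : Fintype.card F = p ^ Module.finrank (ZMod p) F := by
        rw [Module.card_eq_pow_finrank (K := ZMod p), ZMod.card]
      rw [hpf] at h5
      rwa [← Nat.pow_right_injective hpp.two_le h5] at h4
    have hcop : Nat.Coprime (2 ^ k) (f : ℕ) :=
      Nat.Coprime.pow_left k (Nat.prime_two.coprime_iff_not_dvd.mpr hfodd)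
    exact orderOf_eq_one_iff.mp (Nat.eq_one_of_dvd_coprimes hcop h2 h3')
  obtain ⟨g, rfl⟩ := exists_of_fieldPart_eq_one p hfp
  obtain ⟨a', ha'⟩ := exists_prime_orderOf_dvd_card' (G := (P : Subgroup PSL)) 2 (by rw [hc4]; norm_num)
  have ha1 : (a' : PSL) ≠ 1 := fun h => by rw [← Subgroup.orderOf_coe, h, orderOf_one] at ha'; norm_num at ha'
  obtain ⟨n, hn, hne⟩ := hmv a' a'.2 ha1
  have hbP : n * (a' : PSL) * n⁻¹ ∈ P := (Subgroup.mem_normalizer_iff.mp hn _).mp a'.2
  obtain ⟨A, hA⟩ := QuotientGroup.mk'_surjective _ (a' : PSL)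
  obtain ⟨B, hB⟩ := QuotientGroup.mk'_surjective _ (n * (a' : PSL) * n⁻¹)
  haveI := hP
  obtain ⟨w, hw, he⟩ := diag_of_fix (two_ne hF) A B
    (show mk A ≠ 1 from hA ▸ ha1) (show mk A * mk A = 1 from hA ▸ hsq _ a'.2)
    (show mk B ≠ 1 from fun h => ha1 (by simpa using hB.symm.trans h))
    (show mk B * mk B = 1 from hB ▸ hsq _ hbP)
    (show mk A ≠ mk B from fun h => hne ((hA.symm.trans (h.trans hB)).symm))
    (show mk A * mk B = mk B * mk A from by
      rw [show mk A = (a' : PSL) from hA, show mk B = n * (a' : PSL) * n⁻¹ from hB]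
      exact congrArg Subtype.val ((IsMulCommutative.is_comm (M := (P : Subgroup PSL))).comm a' ⟨_, hbP⟩))
    g (by rw [show mk A = (a' : PSL) from hA]; exact hfix _ a'.2)
    (by rw [show mk B = n * (a' : PSL) * n⁻¹ from hB]; exact hfix _ hbP)
  refine ⟨w, ?_, he⟩
  refine (Subgroup.closure_le _).mpr ?_ hw
  rintro y (rfl | rfl)
  · rw [show mk A = (a' : PSL) from hA]; exact a'.2
  · rw [show mk B = n * (a' : PSL) * n⁻¹ from hB]; exact hbP

end CfsgLib.JankoReeMult
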