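/-
Groups of Janko–Ree type: trivial 2-part of the multiplier, and 2-automorphisms centralising a Sylow
2-subgroup are inner.
-/
import Mathlib
import Cfsg.Agent.Lib.JankoReeMult.PSLTwo
import Cfsg.Agent.Lib.SylowExtra
import Cfsg.Prelude.Def_TwoFusion

set_option autoImplicit false
set_option linter.style.haveILetI false
set_option maxHeartbeats 1000000

namespace CfsgLib.JankoReeMult

open Subgroup

universe u w

/-- The data: `C = C(t)`, a Sylow 2-subgroup `S ∋ t` inside it, and `N` normal in `C` isomorphic to PSL(2,q). -/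
structure Data (G : Type u) [Group G] where
  t : G
  ht : orderOf t = 2
  S : Sylow 2 G
  tS : t ∈ S
  N : Subgroup G
  NC : N ≤ centralizer ({t} : Set G)
  Nn : ∀ c ∈ centralizer ({t} : Set G), ∀ x ∈ N, c * x * c⁻¹ ∈ N
  cent : ∀ c ∈ centralizer ({t} : Set G), (∀ x ∈ N, c * x = x * c) → c = 1 ∨ c = t
  ab : IsMulCommutative (S : Subgroup G)

variable {G : Type u} [Group G]

namespace Data

variable (D : Data G)

theorem mem_C {x : G} : x ∈ centralizer ({D.t} : Set G) ↔ D.t * x = x * D.t := by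
  rw [Subgroup.mem_centralizer_singleton_iff]
  exact eq_comm

theorem comm {a b : G} (ha : a ∈ D.S) (hb : b ∈ D.S) : a * b = b * a :=
  congrArg Subtype.val ((D.ab).is_comm.comm (⟨a, ha⟩ : (D.S : Subgroup G)) ⟨b, hb⟩)

theorem S_le : (D.S : Subgroup G) ≤ centralizer ({D.t} : Set G) := fun _ hx => D.mem_C.mpr (D.comm D.tS hx)

theorem t_sq : D.t * D.t = 1 := by
  have h := pow_orderOf_eq_one D.t
  rwa [D.ht, sq] at h

theorem t_ne : D.t ≠ 1 := fun h => by simpa [h] using D.ht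

theorem tC : D.t ∈ centralizer ({D.t} : Set G) := D.mem_C.mpr rfl

/-- `C_N = 1` on the intersection. -/
theorem t_central {c : G} (hc : c ∈ centralizer ({D.t} : Set G)) : c * D.t * c⁻¹ = D.t := by
  rw [← D.mem_C.mp hc, mul_inv_cancel_right]

end Data

variable [Finite G]

/-- `S ∩ N` as a Sylow subgroup of `N`. -/
theorem Data.exists_sylowN (D : Data G) : ∃ P : Sylow 2 D.N, (P : Subgroup D.N) = (D.S : Subgroup G).subgroupOf D.N := by
  haveI : Fact (Nat.Prime 2) := ⟨Nat.prime_two⟩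
  set Cc := centralizer ({D.t} : Set G)
  haveI : (D.N.subgroupOf Cc).Normal := ⟨fun x hx g => D.Nn g g.2 x hx⟩
  have hS : ¬ 2 ∣ ((D.S : Subgroup G).subgroupOf Cc).index := fun h =>
    D.S.not_dvd_index (h.trans (relIndex_dvd_index_of_le D.S_le))
  have hP : IsPGroup 2 ((D.S : Subgroup G).subgroupOf D.N) := D.S.2.comap_subtype
  have hidx : ¬ 2 ∣ ((D.S : Subgroup G).subgroupOf D.N).index := by
    intro h
    have h1 : ((D.S : Subgroup G).subgroupOf Cc).relIndex (D.N.subgroupOf Cc) = ((D.S : Subgroup G).subgroupOf D.N).index := by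
      rw [show Cc = centralizer ({D.t} : Set G) from rfl, Subgroup.relIndex_subgroupOf D.NC]
      rfl
    rw [← h1] at h
    exact hS (h.trans (CfsgLib.relIndex_dvd_index_of_normal_top _ _))
  exact ⟨hP.toSylow hidx, rfl⟩
where
  relIndex_dvd_index_of_le {H K : Subgroup G} (h : H ≤ K) : (H.subgroupOf K).index ∣ H.index :=
    Dvd.intro _ (Subgroup.relIndex_mul_index h)

/-- What PSL(2,q) gives for the Sylow subgroup and its normaliser. -/
structure Klein (D : Data G) : Prop where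
  sq : ∀ x ∈ D.S, x * x = 1
  form : ∀ x ∈ D.S, ∃ v ∈ D.S, v ∈ D.N ∧ (x = v ∨ x = D.t * v)
  moved : ∀ v ∈ D.S, v ∈ D.N → v ≠ 1 → ∃ n ∈ D.N, n ∈ normalizer ((D.S : Subgroup G) : Set G) ∧ n * v * n⁻¹ ≠ v
  four : ∀ v w x : G, v ∈ D.S → v ∈ D.N → w ∈ D.S → w ∈ D.N → x ∈ D.S → x ∈ D.N → v ≠ 1 → w ≠ 1 → v ≠ w →
    x = 1 ∨ x = v ∨ x = w ∨ x = v * w
  inner : ∀ φ : G ≃* G, ∀ k : ℕ, φ ^ (2 ^ k) = 1 → (∀ x ∈ D.N, φ x ∈ D.N) → (∀ x ∈ D.S, φ x = x) →
    ∃ v ∈ D.S, v ∈ D.N ∧ ∀ x ∈ D.N, φ x = v * x * v⁻¹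

theorem klein_of_iso (D : Data G) {F : Type w} [Field F] [Fintype F] (hF : Odd (Fintype.card F))
    (h3 : 3 < Fintype.card F) (i : D.N ≃* Matrix.ProjectiveSpecialLinearGroup (Fin 2) F) : Klein D := by
  classical
  haveI : Fact (Nat.Prime 2) := ⟨Nat.prime_two⟩
  obtain ⟨P, hP⟩ := D.exists_sylowN
  let Q : Sylow 2 (Matrix.ProjectiveSpecialLinearGroup (Fin 2) F) := P.mapSurjective (f := i.toMonoidHom) i.surjective
  have memQ : ∀ y : D.N, i y ∈ Q ↔ (y : G) ∈ D.S := by
    intro y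
    show i y ∈ (P : Subgroup D.N).map i.toMonoidHom ↔ _
    rw [hP]
    exact Subgroup.mem_map_iff_mem i.injective
  have hQ : IsMulCommutative (Q : Subgroup (Matrix.ProjectiveSpecialLinearGroup (Fin 2) F)) := by
    refine ⟨⟨?_⟩⟩
    rintro ⟨a, ha⟩ ⟨b, hb⟩
    obtain ⟨x, rfl⟩ := i.surjective a
    obtain ⟨y, rfl⟩ := i.surjective b
    apply Subtype.ext
    show i x * i y = i y * i x
    rw [← map_mul, ← map_mul, show x * y = y * x from Subtype.ext (D.comm ((memQ x).mp ha) ((memQ y).mp hb))]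
  obtain ⟨hc4, hsq, hmv⟩ := sylow_klein hF h3 Q hQ
  have auto : ∀ (φ : MulAut D.N) (k : ℕ), φ ^ (2 ^ k) = 1 → (∀ y : D.N, (y : G) ∈ D.S → φ y = y) →
      ∃ v : D.N, (v : G) ∈ D.S ∧ ∀ y, φ y = v * y * v⁻¹ := by
    intro φ k hk hfix
    have hk' : (MulAut.congr i φ) ^ (2 ^ k) = 1 := by rw [← map_pow, hk, map_one]
    obtain ⟨v, hv, he⟩ := auto_inner hF h3 Q hQ (MulAut.congr i φ) k hk' fun x hx => by
      obtain ⟨y, rfl⟩ := i.surjective x
      show i (φ (i.symm (i y))) = i y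
      rw [i.symm_apply_apply, hfix y ((memQ y).mp hx)]
    obtain ⟨v', rfl⟩ := i.surjective v
    refine ⟨v', (memQ v').mp hv, fun y => i.injective ?_⟩
    have h := MulEquiv.congr_fun he (i y)
    rw [map_mul, map_mul, map_inv]
    simpa [MulAut.congr] using h
  have hexpN : ∀ x ∈ D.S, x ∈ D.N → x * x = 1 := fun x hx hxN => by
    have h := hsq _ ((memQ ⟨x, hxN⟩).mpr hx)
    rw [← map_mul, map_eq_one_iff i i.injective] at h
    exact congrArg Subtype.val h
  -- conjugation on N by an element of C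
  let cj : ∀ c : G, c ∈ centralizer ({D.t} : Set G) → MulAut D.N := fun c hc =>
    { toFun := fun y => ⟨c * y * c⁻¹, D.Nn c hc y y.2⟩
      invFun := fun y => ⟨c⁻¹ * y * c⁻¹⁻¹, D.Nn c⁻¹ (inv_mem hc) y y.2⟩
      left_inv := fun y => Subtype.ext (by simp [mul_assoc])
      right_inv := fun y => Subtype.ext (by simp [mul_assoc])
      map_mul' := fun y z => Subtype.ext (by simp [mul_assoc]) }
  have form : ∀ x ∈ D.S, ∃ v ∈ D.S, v ∈ D.N ∧ (x = v ∨ x = D.t * v) := by
    intro x hx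
    obtain ⟨k, hk⟩ := D.S.2 ⟨x, hx⟩
    have hk' : x ^ (2 ^ k) = 1 := congrArg Subtype.val hk
    have hcjp : ∀ m : ℕ, ∀ y : D.N, (((cj x (D.S_le hx)) ^ m) y : G) = x ^ m * y * (x ^ m)⁻¹ := by
      intro m
      induction m with
      | zero => intro y; simp
      | succ m ih =>
        intro y
        rw [pow_succ', MulAut.mul_apply]
        show x * _ * x⁻¹ = _
        rw [ih, pow_succ']
        group
    obtain ⟨v, hv, he⟩ := auto (cj x (D.S_le hx)) k (MulEquiv.ext fun y => Subtype.ext (by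
        rw [hcjp, hk', one_mul, inv_one, mul_one]; rfl))
      (fun y hy => Subtype.ext (by
        show x * y * x⁻¹ = y
        rw [D.comm hx hy, mul_inv_cancel_right]))
    have hc : (v : G)⁻¹ * x ∈ centralizer ({D.t} : Set G) := mul_mem (inv_mem (D.NC v.2)) (D.S_le hx)
    rcases D.cent _ hc (fun y hy => by
      have h : x * y * x⁻¹ = v * y * (v : G)⁻¹ := congrArg Subtype.val (he ⟨y, hy⟩)
      calc (v : G)⁻¹ * x * y = (v : G)⁻¹ * (x * y * x⁻¹) * x := by group
        _ = y * ((v : G)⁻¹ * x) := by rw [h]; group) with h | h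
    · exact ⟨v, hv, v.2, Or.inl (inv_mul_eq_one.mp h).symm⟩
    · refine ⟨v, hv, v.2, Or.inr ?_⟩
      rw [inv_mul_eq_iff_eq_mul] at h
      rw [h, D.comm hv D.tS]
  refine ⟨fun x hx => ?_, form, ?_, ?_, ?_⟩
  · obtain ⟨v, hv, hvN, rfl | rfl⟩ := form x hx
    · exact hexpN _ hv hvN
    · calc D.t * v * (D.t * v) = D.t * (v * D.t) * v := by group
        _ = (D.t * D.t) * (v * v) := by rw [D.comm hv D.tS]; group
        _ = 1 := by rw [D.t_sq, hexpN v hv hvN, one_mul]
  · intro v hv hvN hv1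
    obtain ⟨n, hn, hne⟩ := hmv _ ((memQ ⟨v, hvN⟩).mpr hv) (fun h => hv1 (congrArg Subtype.val ((map_eq_one_iff i i.injective).mp h)))
    obtain ⟨m, rfl⟩ := i.surjective n
    refine ⟨m, m.2, ?_, fun h => hne ?_⟩
    · have hC : (m : G) ∈ centralizer ({D.t} : Set G) := D.NC m.2
      have key : ∀ y ∈ D.S, (m : G) * y * (m : G)⁻¹ ∈ D.S := by
        intro y hy
        obtain ⟨w, hw, hwN, rfl | rfl⟩ := form y hy
        · have h1 := (Subgroup.mem_normalizer_iff.mp hn (i ⟨_, hwN⟩)).mp ((memQ ⟨_, hwN⟩).mpr hw)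
          rw [← map_mul, ← map_inv, ← map_mul] at h1
          exact (memQ _).mp h1
        · have h1 := (Subgroup.mem_normalizer_iff.mp hn (i ⟨w, hwN⟩)).mp ((memQ ⟨w, hwN⟩).mpr hw)
          rw [← map_mul, ← map_inv, ← map_mul] at h1
          have h2 : (m : G) * w * (m : G)⁻¹ ∈ D.S := (memQ _).mp h1
          rw [show (m : G) * (D.t * w) * (m : G)⁻¹ = (m * D.t * (m : G)⁻¹) * (m * w * (m : G)⁻¹) by group,
            D.t_central hC]
          exact mul_mem D.tS h2
      refine mem_normalizer_fintype_aux key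
    · rw [← map_inv, ← map_mul, ← map_mul]
      exact congrArg i (Subtype.ext h)
  · intro v w x hv hvN hw hwN hx hxN hv1 hw1 hvw
    have ne : ∀ (a b : G) (ha : a ∈ D.N) (hb : b ∈ D.N), a ≠ b → i ⟨a, ha⟩ ≠ i ⟨b, hb⟩ :=
      fun a b ha hb h e => h (congrArg Subtype.val (i.injective e))
    by_contra hcon
    push Not at hcon
    obtain ⟨h1, h2, h3', h4⟩ := hcon
    have hvw1 : v * w ≠ 1 := fun e => hvw ((mul_eq_one_iff_eq_inv.mp e).trans
      (inv_eq_of_mul_eq_one_right (hexpN w hw hwN)))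
    have hsub : ({i ⟨1, one_mem _⟩, i ⟨v, hvN⟩, i ⟨w, hwN⟩, i ⟨v * w, mul_mem hvN hwN⟩, i ⟨x, hxN⟩} :
        Finset _) ⊆ ((Q : Subgroup (Matrix.ProjectiveSpecialLinearGroup (Fin 2) F)) : Set (Matrix.ProjectiveSpecialLinearGroup (Fin 2) F)).toFinset := by
      intro y hy
      rw [Set.mem_toFinset]
      simp only [Finset.mem_insert, Finset.mem_singleton] at hy
      rcases hy with rfl | rfl | rfl | rfl | rfl
      · exact (memQ _).mpr (one_mem _)
      · exact (memQ _).mpr hv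
      · exact (memQ _).mpr hw
      · exact (memQ _).mpr (mul_mem hv hw)
      · exact (memQ _).mpr hx
    have h5 := Finset.card_le_card hsub
    rw [Finset.card_insert_of_notMem, Finset.card_insert_of_notMem, Finset.card_insert_of_notMem,
      Finset.card_insert_of_notMem, Finset.card_singleton, Set.toFinset_card, ← Nat.card_eq_fintype_card] at h5
    · have : Nat.card ((Q : Subgroup (Matrix.ProjectiveSpecialLinearGroup (Fin 2) F)) : Set (Matrix.ProjectiveSpecialLinearGroup (Fin 2) F)) = 4 := hc4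
      omega
    · simp only [Finset.mem_singleton]
      exact ne _ _ _ _ (Ne.symm h4)
    · simp only [Finset.mem_insert, Finset.mem_singleton, not_or]
      exact ⟨ne _ _ _ _ (fun e => hv1 (by simpa using e.symm)), ne _ _ _ _ (Ne.symm h3')⟩
    · simp only [Finset.mem_insert, Finset.mem_singleton, not_or]
      exact ⟨ne _ _ _ _ hvw, ne _ _ _ _ (fun e => hw1 (by simpa using e.symm)), ne _ _ _ _ (Ne.symm h2)⟩
    · simp only [Finset.mem_insert, Finset.mem_singleton, not_or]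
      exact ⟨ne _ _ _ _ (Ne.symm hv1), ne _ _ _ _ (Ne.symm hw1), ne _ _ _ _ (Ne.symm hvw1), ne _ _ _ _ (Ne.symm h1)⟩
  · intro φ k hk hN hfix
    have hmap : D.N.map φ.toMonoidHom = D.N := Subgroup.eq_of_le_of_card_ge
      (by rintro _ ⟨x, hx, rfl⟩; exact hN x hx) (Subgroup.card_map_of_injective φ.injective).ge
    let ψ : MulAut D.N := (φ.subgroupMap D.N).trans (MulEquiv.subgroupCongr hmap)
    have hψ : ∀ m : ℕ, ∀ y : D.N, ((ψ ^ m) y : G) = (φ ^ m : MulAut G) y := by
      intro m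
      induction m with
      | zero => intro y; rfl
      | succ m ih =>
        intro y
        rw [pow_succ', pow_succ', MulAut.mul_apply, MulAut.mul_apply]
        show φ _ = _
        rw [ih]
    obtain ⟨v, hv, he⟩ := auto ψ k (MulEquiv.ext fun y => Subtype.ext (by
        rw [hψ]; exact MulEquiv.congr_fun hk y))
      (fun y hy => Subtype.ext (hfix y hy))
    exact ⟨v, hv, v.2, fun x hx => congrArg Subtype.val (he ⟨x, hx⟩)⟩
where
  mem_normalizer_fintype_aux {H : Subgroup G} {g : G} (h : ∀ y ∈ H, g * y * g⁻¹ ∈ H) :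
      g ∈ normalizer (H : Set G) := by
    rw [Subgroup.mem_normalizer_iff]
    intro y
    refine ⟨h y, fun hy => ?_⟩
    have hsurj : ∃ z ∈ H, g * z * g⁻¹ = g * y * g⁻¹ := by
      let f : H → H := fun z => ⟨g * z * g⁻¹, h z z.2⟩
      have hf : Function.Injective f := fun a b e => Subtype.ext (by simpa [f] using congrArg Subtype.val e)
      obtain ⟨z, hz⟩ := (Finite.injective_iff_surjective.mp hf) ⟨_, hy⟩
      exact ⟨z, z.2, congrArg Subtype.val hz⟩
    obtain ⟨z, hz, e⟩ := hsurj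
    rwa [show y = z by simpa using e.symm]

variable [IsSimpleGroup G]

theorem exists_move_t (D : Data G) (hG : ¬ IsMulCommutative G) :
    ∃ n ∈ normalizer ((D.S : Subgroup G) : Set G), n * D.t * n⁻¹ ≠ D.t := by
  haveI : Fact (Nat.Prime 2) := ⟨Nat.prime_two⟩
  exact exists_moved hG D.S D.ab D.tS D.t_ne

/-- No perfect central extension by a 2-group. -/
theorem no_cover (D : Data G) (K : Klein D) (hG : ¬ IsMulCommutative G) {L : Type w} [Group L] [Finite L]
    (hL : commutator L = ⊤) (Z : Subgroup L) [Z.Normal] (hZc : Z ≤ center L) (hZp : IsPGroup 2 Z)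
    (e : L ⧸ Z ≃* G) : Z = ⊥ := by
  classical
  haveI : Fact (Nat.Prime 2) := ⟨Nat.prime_two⟩
  set π : L →* G := e.toMonoidHom.comp (QuotientGroup.mk' Z) with hπdef
  have hπs : Function.Surjective π := e.surjective.comp (QuotientGroup.mk'_surjective Z)
  have hker : ∀ z, π z = 1 ↔ z ∈ Z := fun z => by
    rw [hπdef, MonoidHom.comp_apply]
    exact (map_eq_one_iff e e.injective).trans (QuotientGroup.eq_one_iff z)
  obtain ⟨T, hT⟩ := Sylow.mapSurjective_surjective hπs 2 D.S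
  have hTS : (T : Subgroup L).map π = (D.S : Subgroup G) := congrArg (fun P : Sylow 2 G => (P : Subgroup G)) hT
  have hZT : Z ≤ (T : Subgroup L) := by
    obtain ⟨R, hR⟩ := hZp.exists_le_sylow
    obtain ⟨g, hg⟩ := MulAction.exists_smul_eq L R T
    intro z hz
    rw [← hg, Sylow.coe_subgroup_smul]
    exact ⟨z, hR hz, by
      show g * z * g⁻¹ = z
      rw [(Subgroup.mem_center_iff.mp (hZc hz) g), mul_inv_cancel_right]⟩
  have hpre : ∀ a : L, π a ∈ D.S ↔ a ∈ T := by
    intro a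
    refine ⟨fun h => ?_, fun h => show π a ∈ (D.S : Subgroup G) by rw [← hTS]; exact Subgroup.mem_map_of_mem π h⟩
    obtain ⟨b, hb, hba⟩ : π a ∈ (T : Subgroup L).map π := hTS.symm ▸ h
    have hz : b⁻¹ * a ∈ Z := (hker _).mp (by rw [map_mul, map_inv, hba, inv_mul_cancel])
    show a ∈ (T : Subgroup L)
    simpa using mul_mem hb (hZT hz)
  have conjT : ∀ n ∈ normalizer ((D.S : Subgroup G) : Set G), ∀ l : L, π l = n → ∀ a, a ∈ T ↔ l * a * l⁻¹ ∈ T := by
    intro n hn l hl a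
    rw [← hpre, ← hpre, map_mul, map_mul, map_inv, hl]
    exact Subgroup.mem_normalizer_iff.mp hn _
  -- central elements
  have hZcomm : ∀ z ∈ Z, ∀ a : L, z * a = a * z := fun z hz a => (Subgroup.mem_center_iff.mp (hZc hz) a).symm
  set R : Set G := {x | ∀ a : L, π a = x → a ∈ T ∧ ∀ b ∈ T, a * b = b * a} with hR
  have lift_any : ∀ {x : G} (a : L), π a = x → a ∈ T → (∀ b ∈ T, a * b = b * a) → x ∈ R := by
    intro x a ha haT hac a' ha'
    have hz : a⁻¹ * a' ∈ Z := (hker _).mp (by rw [map_mul, map_inv, ha, ha', inv_mul_cancel])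
    have e1 : a' = a * (a⁻¹ * a') := by group
    refine ⟨e1 ▸ mul_mem haT (hZT hz), fun b hb => ?_⟩
    rw [e1, mul_assoc, hZcomm _ hz b, ← mul_assoc, hac b hb, mul_assoc]
  have R_mul : ∀ x y, x ∈ R → y ∈ R → x * y ∈ R := by
    intro x y hx hy
    obtain ⟨a, ha⟩ := hπs x
    obtain ⟨b, hb⟩ := hπs y
    refine lift_any (a * b) (by rw [map_mul, ha, hb]) (mul_mem (hx a ha).1 (hy b hb).1) fun c hc => ?_
    rw [mul_assoc, (hy b hb).2 c hc, ← mul_assoc, (hx a ha).2 c hc, mul_assoc]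
  have R_conj : ∀ n ∈ normalizer ((D.S : Subgroup G) : Set G), ∀ x ∈ R, n * x * n⁻¹ ∈ R := by
    intro n hn x hx
    obtain ⟨a, ha⟩ := hπs x
    obtain ⟨l, hl⟩ := hπs n
    refine lift_any (l * a * l⁻¹) (by rw [map_mul, map_mul, map_inv, hl, ha]) ((conjT n hn l hl a).mp (hx a ha).1)
      fun c hc => ?_
    obtain ⟨c', hc', rfl⟩ : ∃ c' ∈ T, l * c' * l⁻¹ = c := by
      refine ⟨l⁻¹ * c * l, ?_, by group⟩
      rw [conjT n hn l hl]
      simpa [mul_assoc] using hc
    calc l * a * l⁻¹ * (l * c' * l⁻¹) = l * (a * c') * l⁻¹ := by group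
      _ = l * c' * l⁻¹ * (l * a * l⁻¹) := by rw [(hx a ha).2 c' hc']; group
  obtain ⟨τ, hτ⟩ := hπs D.t
  have hτT : τ ∈ T := (hpre τ).mp (hτ ▸ D.tS)
  -- the commutator with τ
  let h : L → L := fun b => τ * b * τ⁻¹ * b⁻¹
  have hval : ∀ b ∈ T, h b ∈ Z := fun b hb => (hker _).mp (by
    simp only [h, map_mul, map_inv, hτ]
    rw [D.comm D.tS ((hpre b).mpr hb)]
    group)
  have hmul : ∀ a ∈ T, ∀ b ∈ T, h (a * b) = h a * h b := by
    intro a ha b hb
    calc h (a * b) = τ * a * τ⁻¹ * ((τ * b * τ⁻¹ * b⁻¹) * a⁻¹) := by simp only [h]; group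
      _ = τ * a * τ⁻¹ * (a⁻¹ * h b) := by rw [hZcomm (h b) (hval b hb) a⁻¹]
      _ = h a * h b := by simp only [h]; group
  have hZ1 : ∀ z ∈ Z, h z = 1 := fun z hz => by
    show τ * z * τ⁻¹ * z⁻¹ = 1
    rw [← hZcomm z hz τ]; group
  have hinv : ∀ n ∈ D.N, n ∈ normalizer ((D.S : Subgroup G) : Set G) → ∀ l, π l = n → ∀ b ∈ T,
      h (l * b * l⁻¹) = h b := by
    intro n hnN hn l hl b hb
    have hz : τ⁻¹ * (l⁻¹ * τ * l) ∈ Z := (hker _).mp (by
      simp only [map_mul, map_inv, hτ, hl]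
      rw [mul_assoc n⁻¹, D.mem_C.mp (D.NC hnN), inv_mul_cancel_left, inv_mul_cancel])
    set z := τ⁻¹ * (l⁻¹ * τ * l) with hzdef
    have e1 : l⁻¹ * τ * l = τ * z := by rw [hzdef, mul_inv_cancel_left]
    calc h (l * b * l⁻¹) = l * ((l⁻¹ * τ * l) * b * (l⁻¹ * τ * l)⁻¹ * b⁻¹) * l⁻¹ := by simp only [h]; group
      _ = l * (τ * (z * b) * z⁻¹ * τ⁻¹ * b⁻¹) * l⁻¹ := by rw [e1]; group
      _ = l * (h b) * l⁻¹ := by rw [hZcomm z hz b]; simp only [h]; group
      _ = h b := by rw [← hZcomm _ (hval b hb) l, mul_inv_cancel_right]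
  have hlift : ∀ v, v ∈ D.S → v ∈ D.N → ∀ b, π b = v → h b = 1 := by
    intro v hv hvN b hb
    by_cases hv1 : v = 1
    · exact hZ1 b ((hker b).mp (hb.trans hv1))
    have sameZ : ∀ {x y : L}, x ∈ T → y ∈ T → π x = π y → h x = h y := by
      intro x y hx hy hxy
      have hz : x⁻¹ * y ∈ Z := (hker _).mp (by rw [map_mul, map_inv, hxy, inv_mul_cancel])
      have e2 : y = x * (x⁻¹ * y) := by group
      rw [e2, hmul x hx _ (hZT hz), hZ1 _ hz, mul_one]
    obtain ⟨n, hnN, hn, hne⟩ := K.moved v hv hvN hv1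
    set w := n * v * n⁻¹ with hw
    have hwS : w ∈ D.S := (Subgroup.mem_normalizer_iff.mp hn v).mp hv
    have hwN : w ∈ D.N := mul_mem (mul_mem hnN hvN) (inv_mem hnN)
    have hw1 : w ≠ 1 := fun e => hv1 (by simpa [hw] using e)
    obtain ⟨l, hl⟩ := hπs n
    have hbT : b ∈ T := (hpre b).mp (hb ▸ hv)
    have hb' : l * b * l⁻¹ ∈ T := (conjT n hn l hl b).mp hbT
    have hbw : π (l * b * l⁻¹) = w := by rw [map_mul, map_mul, map_inv, hl, hb]
    have h1 : h (l * b * l⁻¹) = h b := hinv n hnN hn l hl b hbT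
    -- vw is moved to v or w
    have hvw1 : v * w ≠ 1 := fun e => hne.symm ((mul_eq_one_iff_eq_inv.mp e).trans
      (inv_eq_of_mul_eq_one_right (K.sq w hwS)))
    obtain ⟨m, hmN, hm, hmne⟩ := K.moved (v * w) (mul_mem hv hwS) (mul_mem hvN hwN) hvw1
    obtain ⟨l', hl'⟩ := hπs m
    have hprod : h (b * (l * b * l⁻¹)) = h b * h b := by rw [hmul b hbT _ hb', h1]
    have hbb : h b * h b = 1 := by
      rw [← hmul b hbT b hbT]
      exact hZ1 _ ((hker _).mp (by rw [map_mul, hb]; exact K.sq v hv))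
    have h2 := hinv m hmN hm l' hl' _ (mul_mem hbT hb')
    rw [hprod, hbb] at h2
    have hx : π (l' * (b * (l * b * l⁻¹)) * l'⁻¹) = m * (v * w) * m⁻¹ := by
      rw [map_mul, map_mul, map_inv, hl', map_mul, hb, hbw]
    have hxS : m * (v * w) * m⁻¹ ∈ D.S := (Subgroup.mem_normalizer_iff.mp hm _).mp (mul_mem hv hwS)
    have hxT : l' * (b * (l * b * l⁻¹)) * l'⁻¹ ∈ T := (conjT m hm l' hl' _).mp (mul_mem hbT hb')
    rcases K.four v w _ hv hvN hwS hwN hxS (mul_mem (mul_mem hmN (mul_mem hvN hwN)) (inv_mem hmN)) hv1 hw1 hne.symm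
      with e1 | e1 | e1 | e1
    · exact absurd (by simpa using e1) hvw1
    · rw [← h2]; exact sameZ hbT hxT (by rw [hx, e1, hb])
    · rw [← h2, ← h1]; exact sameZ hb' hxT (by rw [hx, e1, hbw])
    · exact absurd e1 hmne
  have htR : D.t ∈ R := by
    refine lift_any τ hτ hτT fun b hb => ?_
    have key : h b = 1 := by
      obtain ⟨v, hv, hvN, hx | hx⟩ := K.form (π b) ((hpre b).mpr hb)
      · exact hlift v hv hvN b hx
      · have hτb : τ⁻¹ * b ∈ T := mul_mem (inv_mem hτT) hb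
        have h3 := hlift v hv hvN (τ⁻¹ * b) (by rw [map_mul, map_inv, hτ, hx, inv_mul_cancel_left])
        have h4 : h τ = 1 := by simp [h]
        rw [show b = τ * (τ⁻¹ * b) by group, hmul τ hτT _ hτb, h3, h4, one_mul]
    calc τ * b = h b * (b * τ) := by simp only [h]; group
      _ = b * τ := by rw [key, one_mul]
  obtain ⟨n₀, hn₀, hn₀t⟩ := exists_move_t D hG
  have hvR : ∃ v, v ∈ D.S ∧ v ∈ D.N ∧ v ≠ 1 ∧ v ∈ R := by
    have h1 := R_conj n₀ hn₀ _ htR
    have hS1 : n₀ * D.t * n₀⁻¹ ∈ D.S := (Subgroup.mem_normalizer_iff.mp hn₀ _).mp D.tS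
    obtain ⟨v, hv, hvN, hx | hx⟩ := K.form _ hS1
    · refine ⟨v, hv, hvN, fun e => D.t_ne ?_, hx ▸ h1⟩
      rw [e] at hx
      simpa using hx
    · refine ⟨v, hv, hvN, fun e => hn₀t (by rw [hx, e, mul_one]), ?_⟩
      have h2 := R_mul _ _ htR (hx ▸ h1)
      rwa [← mul_assoc, D.t_sq, one_mul] at h2
  obtain ⟨v, hv, hvN, hv1, hvR⟩ := hvR
  have hSR : ∀ x ∈ D.S, x ∈ R := by
    obtain ⟨n, hnN, hn, hne⟩ := K.moved v hv hvN hv1
    have hwR := R_conj n hn v hvR
    have hwS := (Subgroup.mem_normalizer_iff.mp hn v).mp hv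
    have h1R : (1 : G) ∈ R := lift_any 1 (map_one π) (one_mem _) fun b _ => by rw [one_mul, mul_one]
    have hN : ∀ x ∈ D.S, x ∈ D.N → x ∈ R := by
      intro x hx hxN
      rcases K.four v _ x hv hvN hwS (mul_mem (mul_mem hnN hvN) (inv_mem hnN)) hx hxN hv1
        (fun e => hv1 (by simpa using e)) hne.symm with rfl | rfl | rfl | rfl
      exacts [h1R, hvR, hwR, R_mul _ _ hvR hwR]
    intro x hx
    obtain ⟨u, hu, huN, rfl | rfl⟩ := K.form x hx
    · exact hN _ hu huN
    · exact R_mul _ _ htR (hN u hu huN)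
  -- transfer
  letI : CommGroup (T : Subgroup L) := { (inferInstance : Group (T : Subgroup L)) with
    mul_comm := fun a b => Subtype.ext ((hSR _ ((hpre a).mpr a.2) a rfl).2 b b.2) }
  rw [eq_bot_iff]
  intro z hz
  have key : ∀ (k : ℕ) (g₀ : L), g₀⁻¹ * z ^ k * g₀ ∈ (T : Subgroup L) → g₀⁻¹ * z ^ k * g₀ = z ^ k := by
    intro k g₀ _
    rw [mul_assoc, hZcomm _ (pow_mem hz k) g₀, inv_mul_cancel_left]
  set φ := MonoidHom.transfer (MonoidHom.id (T : Subgroup L))
  have h1 : φ z = 1 := Abelianization.commutator_subset_ker φ (hL ▸ Subgroup.mem_top z)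
  rw [show φ z = ⟨z ^ (T : Subgroup L).index, MonoidHom.transfer_eq_pow_aux z key⟩ from
    MonoidHom.transfer_eq_pow _ z key] at h1
  have h2 := orderOf_dvd_of_pow_eq_one (congrArg Subtype.val h1 : z ^ (T : Subgroup L).index = 1)
  obtain ⟨k, hk⟩ := hZp ⟨z, hz⟩
  have h3 : orderOf z ∣ 2 ^ k := orderOf_dvd_of_pow_eq_one (congrArg Subtype.val hk)
  have hcop : Nat.Coprime (2 ^ k) (T : Subgroup L).index :=
    Nat.Coprime.pow_left k (Nat.prime_two.coprime_iff_not_dvd.mpr T.not_dvd_index)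
  exact Subgroup.mem_bot.mpr (orderOf_eq_one_iff.mp (Nat.eq_one_of_dvd_coprimes hcop h3 h2))

/-- A 2-automorphism centralising `S` and normalising `N` is inner. -/
theorem auto_inner_of (D : Data G) (K : Klein D) (hG : ¬ IsMulCommutative G)
    (hmax : IsCoatom (centralizer ({D.t} : Set G))) (φ : G ≃* G) (k : ℕ) (hk : φ ^ (2 ^ k) = 1)
    (hfix : ∀ x ∈ D.S, φ x = x) (hN : ∀ x ∈ D.N, φ x ∈ D.N) : ∃ g : G, ∀ x : G, φ x = g * x * g⁻¹ := by
  classical
  haveI : Fact (Nat.Prime 2) := ⟨Nat.prime_two⟩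
  obtain ⟨v, hv, hvN, hvφ⟩ := K.inner φ k hk hN hfix
  let ψ : MulAut G := (MulAut.conj v)⁻¹ * φ
  have hψ : ∀ x, ψ x = v⁻¹ * φ x * v := fun x => MulAut.conj_inv_apply v (φ x)
  have hψN : ∀ x ∈ D.N, ψ x = x := fun x hx => by rw [hψ, hvφ x hx]; group
  have hψS : ∀ x ∈ D.S, ψ x = x := fun x hx => by
    rw [hψ, hfix x hx, mul_assoc, D.comm hx hv, inv_mul_cancel_left]
  have hψC : ∀ c ∈ centralizer ({D.t} : Set G), ψ c ∈ centralizer ({D.t} : Set G) := fun c hc => by
    rw [D.mem_C]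
    nth_rewrite 1 [← hψS _ D.tS]
    rw [← map_mul, D.mem_C.mp hc, map_mul, hψS _ D.tS]
  -- ψ fixes C
  have hδ : ∀ c ∈ centralizer ({D.t} : Set G), c⁻¹ * ψ c = 1 ∨ c⁻¹ * ψ c = D.t := by
    intro c hc
    refine D.cent _ (mul_mem (inv_mem hc) (hψC c hc)) fun x hx => ?_
    have h1 : ψ (c * x * c⁻¹) = c * x * c⁻¹ := hψN _ (D.Nn c hc x hx)
    rw [map_mul, map_mul, map_inv, hψN x hx] at h1
    calc c⁻¹ * ψ c * x = c⁻¹ * (ψ c * x * (ψ c)⁻¹) * ψ c := by group
      _ = x * (c⁻¹ * ψ c) := by rw [h1]; group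
  have hfixC : ∀ c ∈ centralizer ({D.t} : Set G), ψ c = c := by
    set Cc := centralizer ({D.t} : Set G)
    let Fx : Subgroup Cc :=
      { carrier := {c | ψ c = c}
        mul_mem' := fun {a b} (ha : ψ a = a) (hb : ψ b = b) => by
          show ψ ((a : G) * b) = a * b
          rw [map_mul, ha, hb]
        one_mem' := map_one ψ
        inv_mem' := fun {a} (ha : ψ a = a) => by
          show ψ (a : G)⁻¹ = (a : G)⁻¹
          rw [map_inv, ha] }
    by_contra hcon
    push Not at hcon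
    obtain ⟨c₀, hc₀, hne⟩ := hcon
    have hidx : Fx.index = 2 := by
      refine Subgroup.index_eq_two_iff_exists_notMem_and.mpr ⟨⟨c₀, hc₀⟩, hne, fun b => ?_⟩
      rcases hδ b b.2 with h | h
      · exact Or.inr (inv_mul_eq_one.mp h).symm
      · left
        show ψ ((b : G) * c₀) = b * c₀
        have h0 := (hδ c₀ hc₀).resolve_left fun e => hne (inv_mul_eq_one.mp e).symm
        rw [inv_mul_eq_iff_eq_mul] at h h0
        rw [map_mul, h, h0, mul_assoc, ← mul_assoc D.t, D.mem_C.mp hc₀, mul_assoc c₀, D.t_sq, mul_one]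
    have hd : Fx.index ∣ ((D.S : Subgroup G).subgroupOf Cc).index :=
      Subgroup.index_dvd_of_le fun x hx => hψS _ hx
    rw [hidx] at hd
    exact D.S.not_dvd_index (hd.trans (Dvd.intro _ (Subgroup.relIndex_mul_index D.S_le)))
  have hψpow : ψ ^ (2 ^ (k + 1)) = 1 := by
    have hcomm : Commute (MulAut.conj v)⁻¹ φ := by
      refine (Commute.inv_left ?_)
      refine MulEquiv.ext fun x => ?_
      show v * φ x * v⁻¹ = φ (v * x * v⁻¹)
      rw [map_mul, map_mul, map_inv, hfix v hv]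
    rw [hcomm.mul_pow]
    have e1 : (MulAut.conj v)⁻¹ ^ (2 ^ (k + 1)) = 1 := by
      rw [inv_pow, ← map_pow, pow_succ, mul_comm, pow_mul, sq, K.sq v hv, one_pow, map_one, inv_one]
    rw [e1, pow_succ, pow_mul, hk, one_pow, one_mul]
  -- the defect on N(S)
  set Ns := normalizer ((D.S : Subgroup G) : Set G) with hNs
  have hdef : ∀ n ∈ Ns, n⁻¹ * ψ n ∈ D.S := by
    intro n hn
    set c := n⁻¹ * ψ n with hc
    have hcS : ∀ s ∈ (D.S : Subgroup G), c * s = s * c := by
      intro s hs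
      have h1 : ψ (n * s * n⁻¹) = n * s * n⁻¹ := hψS _ ((Subgroup.mem_normalizer_iff.mp hn s).mp hs)
      rw [map_mul, map_mul, map_inv, hψS s hs] at h1
      calc c * s = n⁻¹ * (ψ n * s * (ψ n)⁻¹) * ψ n := by rw [hc]; group
        _ = s * c := by rw [h1, hc]; group
    have hcC : c ∈ centralizer ({D.t} : Set G) := D.mem_C.mpr (hcS _ D.tS).symm
    have hpow : ∀ m : ℕ, (ψ ^ m) n = n * c ^ m := by
      intro m
      induction m with
      | zero => simp
      | succ m ih =>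
        rw [pow_succ', MulAut.mul_apply, ih, map_mul, map_pow, hfixC c hcC, pow_succ', ← mul_assoc,
          show n * c = ψ n by rw [hc, mul_inv_cancel_left]]
    have h2 : c ^ (2 ^ (k + 1)) = 1 := by
      have := hpow (2 ^ (k + 1))
      rw [hψpow] at this
      simpa using this.symm
    have hp : IsPGroup 2 (zpowers c) := by
      obtain ⟨j, -, hj⟩ := (Nat.dvd_prime_pow Nat.prime_two).mp (orderOf_dvd_of_pow_eq_one h2)
      exact IsPGroup.of_card (n := j) (by rw [Nat.card_zpowers, hj])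
    have hnorm : zpowers c ≤ normalizer ((D.S : Subgroup G) : Set G) := by
      rw [Subgroup.zpowers_le, Subgroup.mem_normalizer_iff]
      intro s
      constructor
      · intro hs
        rw [hcS s hs, mul_inv_cancel_right]; exact hs
      · intro hs
        have h3 := hcS _ hs
        have h4 : c * s * c⁻¹ = s := by
          calc c * s * c⁻¹ = c⁻¹ * (c * (c * s * c⁻¹)) := by group
            _ = c⁻¹ * (c * s * c⁻¹ * c) := by rw [h3]
            _ = s := by group
        rwa [h4] at hs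
    have hsup : IsPGroup 2 ((zpowers c ⊔ (D.S : Subgroup G) : Subgroup G)) :=
      IsPGroup.to_sup_of_normal_right' hp D.S.2 hnorm
    have heq := D.S.is_maximal' hsup le_sup_right
    show c ∈ (D.S : Subgroup G)
    rw [← heq]
    exact Subgroup.mem_sup_left (Subgroup.mem_zpowers c)
  -- averaging
  haveI := D.ab
  letI : CommGroup (D.S : Subgroup G) := { (inferInstance : Group (D.S : Subgroup G)) with
    mul_comm := fun a b => Subtype.ext (D.comm a.2 b.2) }
  let CS : Subgroup Ns := (centralizer ((D.S : Subgroup G) : Set G)).subgroupOf Ns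
  have hSodd : ¬ 2 ∣ CS.index := by
    intro h
    have hle : (D.S : Subgroup G) ≤ Ns := Subgroup.le_normalizer
    have h1 : ((D.S : Subgroup G).subgroupOf Ns) ≤ CS := fun x hx => fun y hy => D.comm hy hx
    exact D.S.not_dvd_index ((h.trans (Subgroup.index_dvd_of_le h1)).trans (Dvd.intro _ (Subgroup.relIndex_mul_index hle)))
  let c : Ns → (D.S : Subgroup G) := fun n => ⟨(n : G)⁻¹ * ψ n, hdef n n.2⟩
  let act : Ns → ((D.S : Subgroup G) →* (D.S : Subgroup G)) := fun m =>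
    { toFun := fun s => ⟨(m : G)⁻¹ * s * m, by
        have h := (Subgroup.mem_normalizer_iff.mp (inv_mem m.2) (s : G)).mp s.2
        simpa using h⟩
      map_one' := Subtype.ext (by simp)
      map_mul' := fun a b => Subtype.ext (by
        show (m : G)⁻¹ * ((a : G) * b) * m = (m : G)⁻¹ * a * m * ((m : G)⁻¹ * b * m)
        group) }
  have hcmul : ∀ n m : Ns, c (n * m) = act m (c n) * c m := fun n m => Subtype.ext (by
    show ((n : G) * m)⁻¹ * ψ ((n : G) * m) = (m : G)⁻¹ * ((n : G)⁻¹ * ψ n) * m * ((m : G)⁻¹ * ψ m)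
    rw [map_mul]; group)
  have hcz : ∀ n z : Ns, z ∈ CS → c (n * z) = c n := by
    intro n z hz
    have hzC : (z : G) ∈ centralizer ({D.t} : Set G) := D.mem_C.mpr (hz _ D.tS)
    rw [hcmul]
    have e1 : c z = 1 := Subtype.ext (by show (z : G)⁻¹ * ψ z = 1; rw [hfixC _ hzC, inv_mul_cancel])
    have e2 : act z (c n) = c n := Subtype.ext (by
      show (z : G)⁻¹ * (c n : G) * z = c n
      rw [mul_assoc, show (c n : G) * z = (z : G) * c n from hz _ (c n).2, inv_mul_cancel_left])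
    rw [e1, e2, mul_one]
  haveI : CS.Normal := ⟨fun z hz g => by
    intro y hy
    have hy' : (g : G)⁻¹ * y * g ∈ D.S := by
      have h := (Subgroup.mem_normalizer_iff.mp (inv_mem g.2) y).mp hy
      show (g : G)⁻¹ * y * g ∈ (D.S : Subgroup G)
      simpa using h
    have h1 : (g : G)⁻¹ * y * g * z = z * ((g : G)⁻¹ * y * g) := hz _ hy'
    show y * ((g : G) * z * (g : G)⁻¹) = (g : G) * z * (g : G)⁻¹ * y
    calc y * ((g : G) * z * (g : G)⁻¹) = g * ((g : G)⁻¹ * y * g * z) * (g : G)⁻¹ := by group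
      _ = (g : G) * z * (g : G)⁻¹ * y := by rw [h1]; group⟩
  letI : Fintype (Ns ⧸ CS) := Fintype.ofFinite _
  let cb : Ns ⧸ CS → (D.S : Subgroup G) := fun q => Quotient.liftOn' q c fun a b hab => by
    have hab' : a⁻¹ * b ∈ CS := QuotientGroup.leftRel_apply.mp hab
    rw [show b = a * (a⁻¹ * b) by group, hcz a _ hab']
  set s : (D.S : Subgroup G) := ∏ q, cb q with hs
  have hcm : ∀ m : Ns, c m = act m s * s := by
    intro m
    have h1 : s = act m s * (c m) ^ CS.index := by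
      calc s = ∏ q, cb (q * (m : Ns ⧸ CS)) := (Equiv.prod_comp (Equiv.mulRight (m : Ns ⧸ CS)) cb).symm
        _ = ∏ q, act m (cb q) * c m := Finset.prod_congr rfl fun q _ => by
            induction q using QuotientGroup.induction_on with
            | H a => exact hcmul a m
        _ = act m s * (c m) ^ CS.index := by
            rw [Finset.prod_mul_distrib, ← map_prod, Finset.prod_const, Finset.card_univ,
              ← Nat.card_eq_fintype_card]
            rfl
    obtain ⟨j, hj⟩ := Nat.odd_iff.mpr (Nat.two_dvd_ne_zero.mp hSodd)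
    have h2 : (c m) ^ CS.index = c m := by
      rw [hj, pow_succ, pow_mul, show (c m) ^ 2 = 1 from Subtype.ext (by
        rw [sq]; exact K.sq _ (c m).2), one_pow, one_mul]
    rw [h2] at h1
    conv_rhs => arg 2; rw [h1]
    rw [← mul_assoc, ← map_mul, show s * s = 1 from Subtype.ext (K.sq _ s.2), map_one, one_mul]
  -- s centralises N(S) ∩ C
  have hst : (s : G) = 1 ∨ (s : G) = D.t := by
    obtain ⟨u, hu, huN, he⟩ := K.form _ s.2
    by_cases hu1 : u = 1
    · subst hu1; simpa using he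
    obtain ⟨n, hnN, hn, hne⟩ := K.moved u hu huN hu1
    exfalso
    apply hne
    have h1 := congrArg Subtype.val (hcm ⟨n, hn⟩)
    have h0 : n⁻¹ * ψ n = 1 := by rw [hψN n hnN, inv_mul_cancel]
    change n⁻¹ * ψ n = n⁻¹ * (s : G) * n * (s : G) at h1
    rw [h0] at h1
    have h2 : n * (s : G) = (s : G) * n := by
      have h3 : n⁻¹ * (s : G) * n = (s : G) := by
        rw [eq_inv_of_mul_eq_one_left h1.symm]
        exact inv_eq_of_mul_eq_one_right (K.sq _ s.2)
      calc n * (s : G) = n * (n⁻¹ * (s : G) * n) := by rw [h3]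
        _ = (s : G) * n := by group
    rcases he with e | e
    · rw [e] at h2
      rw [h2, mul_inv_cancel_right]
    · rw [e, ← mul_assoc, ← D.mem_C.mp (D.NC hnN), mul_assoc, mul_assoc, mul_left_cancel_iff] at h2
      rw [h2, mul_inv_cancel_right]
  have hscomm : ∀ x ∈ centralizer ({D.t} : Set G), (s : G) * x = x * (s : G) := by
    intro x hx
    rcases hst with e | e <;> rw [e]
    · rw [one_mul, mul_one]
    · exact D.mem_C.mp hx
  -- ψ = conjugation by s
  let Fx : Subgroup G :=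
    { carrier := {x | ψ x = (s : G) * x * (s : G)⁻¹}
      mul_mem' := fun {a b} (ha : ψ a = _) (hb : ψ b = _) => by
        show ψ (a * b) = _
        rw [map_mul, ha, hb]; group
      one_mem' := by show ψ 1 = _; rw [map_one]; group
      inv_mem' := fun {a} (ha : ψ a = _) => by
        show ψ a⁻¹ = _
        rw [map_inv, ha]; group }
  have hCFx : centralizer ({D.t} : Set G) ≤ Fx := fun x hx => by
    show ψ x = _
    rw [hfixC x hx, hscomm x hx, mul_inv_cancel_right]
  have hNFx : Ns ≤ Fx := fun n hn => by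
    show ψ n = _
    have h1 : n⁻¹ * ψ n = n⁻¹ * (s : G) * n * (s : G) := congrArg Subtype.val (hcm ⟨n, hn⟩)
    rw [inv_eq_of_mul_eq_one_right (K.sq _ s.2)]
    calc ψ n = n * (n⁻¹ * ψ n) := by group
      _ = _ := by rw [h1]; group
  obtain ⟨n₀, hn₀, hn₀t⟩ := exists_move_t D hG
  have htop : Fx = ⊤ := hmax.2 _ (lt_of_le_of_ne hCFx fun e => hn₀t (D.t_central (e ▸ hNFx hn₀)))
  refine ⟨v * (s : G), fun x => ?_⟩
  have h1 : v⁻¹ * φ x * v = (s : G) * x * (s : G)⁻¹ := (hψ x).symm.trans (htop ▸ Subgroup.mem_top x : x ∈ Fx)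
  calc φ x = v * (v⁻¹ * φ x * v) * v⁻¹ := by group
    _ = v * (s : G) * x * (v * (s : G))⁻¹ := by rw [h1]; group

end CfsgLib.JankoReeMult
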