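/-
From the hypotheses of a group of Janko–Ree type to the working data.
-/
import Mathlib
import Cfsg.Agent.Lib.JankoReeMult.Main

set_option autoImplicit false
set_option linter.style.haveILetI false
set_option maxHeartbeats 1000000

namespace CfsgLib.JankoReeMult

open Subgroup
open scoped commutatorElement

universe u v w

variable {G : Type u} [Group G] [Finite G]

theorem mem_product {t : G} (ht : orderOf t = 2) {E : Subgroup G}
    (hE : Cfsg.IsInternalDirectProduct (zpowers t) E (centralizer ({t} : Set G))) {c : G}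
    (hc : c ∈ centralizer ({t} : Set G)) : ∃ e ∈ E, c = e ∨ c = t * e := by
  obtain ⟨-, -, hcomm, -, hsup⟩ := hE
  have hn : zpowers t ≤ normalizer (E : Set G) := by
    intro a ha
    rw [Subgroup.mem_normalizer_iff]
    intro x
    constructor
    · intro hx
      rwa [hcomm a ha x hx, mul_inv_cancel_right]
    · intro hx
      have h := hcomm a ha _ hx
      have : a * x * a⁻¹ = x := by
        calc a * x * a⁻¹ = a⁻¹ * (a * (a * x * a⁻¹)) := by group
          _ = a⁻¹ * (a * x * a⁻¹ * a) := by rw [h]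
          _ = x := by group
      rwa [this] at hx
  rw [← hsup, ← SetLike.mem_coe, Subgroup.coe_mul_of_left_le_normalizer_right _ _ hn] at hc
  obtain ⟨a, ⟨i, rfl⟩, e, he, rfl⟩ := hc
  have h2 : t ^ (2 : ℤ) = 1 := by
    have h := pow_orderOf_eq_one t
    rw [ht] at h
    exact_mod_cast h
  rcases Int.even_or_odd' i with ⟨m, rfl | rfl⟩
  · exact ⟨e, he, Or.inl (by simp [zpow_mul, h2])⟩
  · exact ⟨e, he, Or.inr (by simp [zpow_add, zpow_mul, h2])⟩

variable {t : G} {E : Subgroup G}

theorem normalizes {N : Subgroup E} [hN : N.Normal] (ht : orderOf t = 2)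
    (hE : Cfsg.IsInternalDirectProduct (zpowers t) E (centralizer ({t} : Set G))) (c : G)
    (hc : c ∈ centralizer ({t} : Set G)) (x : G) (hx : x ∈ N.map E.subtype) : c * x * c⁻¹ ∈ N.map E.subtype := by
  obtain ⟨y, hy, rfl⟩ := hx
  obtain ⟨e, he, rfl | rfl⟩ := mem_product ht hE hc
  · exact ⟨_, hN.conj_mem y hy ⟨c, he⟩, by simp⟩
  · refine ⟨_, hN.conj_mem y hy ⟨e, he⟩, ?_⟩
    have h1 : t * (e * (y : G) * e⁻¹) = e * (y : G) * e⁻¹ * t :=
      hE.2.2.1 t (mem_zpowers t) _ (mul_mem (mul_mem he y.2) (inv_mem he))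
    calc e * (y : G) * e⁻¹ = e * (y : G) * e⁻¹ * t * t⁻¹ := by rw [mul_inv_cancel_right]
      _ = t * e * (y : G) * (t * e)⁻¹ := by rw [← h1]; group

theorem cent_eq {N : Subgroup E} (ht : orderOf t = 2)
    (hE : Cfsg.IsInternalDirectProduct (zpowers t) E (centralizer ({t} : Set G)))
    (hNc : centralizer (N : Set E) = ⊥) (c : G) (hc : c ∈ centralizer ({t} : Set G))
    (h : ∀ x ∈ N.map E.subtype, c * x = x * c) : c = 1 ∨ c = t := by
  have key : ∀ e (he : e ∈ E), (∀ x ∈ N.map E.subtype, e * x = x * e) → e = 1 := by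
    intro e he h'
    have h1 : (⟨e, he⟩ : E) ∈ centralizer (N : Set E) := fun y hy =>
      Subtype.ext (h' y ⟨y, hy, rfl⟩).symm
    rw [hNc, Subgroup.mem_bot] at h1
    exact congrArg Subtype.val h1
  obtain ⟨e, he, rfl | rfl⟩ := mem_product ht hE hc
  · exact Or.inl (key c he h)
  · refine Or.inr ?_
    rw [key e he fun x hx => ?_, mul_one]
    have h1 := h x hx
    obtain ⟨y, hy, rfl⟩ := hx
    have h2 : t * (y : G) = (y : G) * t := hE.2.2.1 t (mem_zpowers t) _ y.2
    apply mul_left_cancel (a := t)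
    calc t * (e * (y : G)) = t * e * (y : G) := by group
      _ = (y : G) * (t * e) := h1
      _ = t * ((y : G) * e) := by rw [← mul_assoc, ← h2, mul_assoc]

end CfsgLib.JankoReeMult

namespace CfsgLib.JankoReeMult

open Subgroup
open scoped commutatorElement

universe u w

variable {G : Type u} [Group G] [Finite G] {t : G} {E : Subgroup G}

/-- A normal nonabelian simple `N ≤ E` with trivial centralizer is fixed by automorphisms fixing `t`. -/
theorem auto_preserves {N : Subgroup E} [N.Normal] (ht : orderOf t = 2)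
    (hE : Cfsg.IsInternalDirectProduct (zpowers t) E (centralizer ({t} : Set G)))
    (hNc : centralizer (N : Set E) = ⊥) [IsSimpleGroup N] (hna : ¬ IsMulCommutative N)
    (φ : G ≃* G) (hφ : φ t = t) : ∀ x ∈ N.map E.subtype, φ x ∈ N.map E.subtype := by
  set C := centralizer ({t} : Set G)
  set N' := N.map E.subtype with hN'
  have hN'E : N' ≤ E := Subgroup.map_subtype_le _
  have hN'C : N' ≤ C := hN'E.trans hE.2.1
  have hperf : ⁅N, N⁆ = N := by
    haveI : Group.IsPerfect N := by
      refine ⟨((inferInstance : (commutator N).Normal).eq_bot_or_eq_top).resolve_left fun h => hna ⟨⟨fun a b => ?_⟩⟩⟩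
      have : ⁅a, b⁆ ∈ commutator N := Subgroup.commutator_mem_commutator (mem_top a) (mem_top b)
      rw [h, Subgroup.mem_bot, commutatorElement_eq_one_iff_mul_comm] at this
      exact this
    exact Subgroup.isPerfect_iff.mp inferInstance
  have hC : ∀ {c : G}, c ∈ C ↔ t * c = c * t := fun {c} => by
    rw [Subgroup.mem_centralizer_singleton_iff]
    exact eq_comm
  set M := N'.map φ.toMonoidHom with hM
  have hMC : M ≤ C := by
    rintro _ ⟨x, hx, rfl⟩
    rw [hC]
    show t * φ x = φ x * t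
    rw [← hφ, ← map_mul, ← map_mul, hC.mp (hN'C hx)]
  have hME : M ≤ E := by
    have h1 : M = ⁅M, M⁆ := by rw [hM, hN', ← Subgroup.map_commutator, ← Subgroup.map_commutator, hperf]
    rw [h1, Subgroup.commutator_le]
    intro a ha b hb
    obtain ⟨e, he, hae⟩ := mem_product ht hE (hMC ha)
    obtain ⟨f, hf, hbf⟩ := mem_product ht hE (hMC hb)
    have hte : t * e = e * t := hE.2.2.1 t (mem_zpowers t) e he
    have htf : t * f = f * t := hE.2.2.1 t (mem_zpowers t) f hf
    have : a * b * a⁻¹ * b⁻¹ = e * f * e⁻¹ * f⁻¹ := by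
      have c1 : Commute t e := hte
      have c2 : Commute t f := htf
      rcases hae with rfl | rfl <;> rcases hbf with rfl | rfl
      · rfl
      · calc a * (t * f) * a⁻¹ * (t * f)⁻¹ = a * t * f * a⁻¹ * f⁻¹ * t⁻¹ := by group
          _ = t * (a * f * a⁻¹ * f⁻¹) * t⁻¹ := by rw [← c1.eq]; group
          _ = a * f * a⁻¹ * f⁻¹ := by
            rw [(((c1.mul_right c2).mul_right c1.inv_right).mul_right c2.inv_right).eq, mul_inv_cancel_right]
      · calc t * e * b * (t * e)⁻¹ * b⁻¹ = t * (e * b * e⁻¹) * (t⁻¹ * b⁻¹) := by group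
          _ = (e * b * e⁻¹) * t * (t⁻¹ * b⁻¹) := by rw [((c1.mul_right c2).mul_right c1.inv_right).eq]
          _ = e * b * e⁻¹ * b⁻¹ := by group
      · calc t * e * (t * f) * (t * e)⁻¹ * (t * f)⁻¹ = t * ((e * t) * f * e⁻¹ * (t⁻¹ * f⁻¹) * t⁻¹) := by group
          _ = t * ((t * e) * f * e⁻¹ * (f⁻¹ * t⁻¹) * t⁻¹) := by rw [c1.eq, c2.inv_inv.eq]
          _ = t * t * (e * f * e⁻¹ * f⁻¹) * (t * t)⁻¹ := by group
          _ = e * f * e⁻¹ * f⁻¹ := by
            have h := pow_orderOf_eq_one t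
            rw [ht, sq] at h
            rw [h, one_mul, inv_one, mul_one]
    show a * b * a⁻¹ * b⁻¹ ∈ E
    rw [this]
    exact mul_mem (mul_mem (mul_mem he hf) (inv_mem he)) (inv_mem hf)
  have hsurjC : ∀ c ∈ C, ∃ c' ∈ C, φ c' = c := by
    intro c hc
    refine ⟨φ.symm c, hC.mpr (φ.injective ?_), φ.apply_symm_apply c⟩
    rw [map_mul, map_mul, φ.apply_symm_apply, hφ]
    exact hC.mp hc
  have hMn : ∀ c ∈ C, ∀ x ∈ M, c * x * c⁻¹ ∈ M := by
    intro c hc x hx
    obtain ⟨c', hc', rfl⟩ := hsurjC c hc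
    obtain ⟨y, hy, rfl⟩ := hx
    refine ⟨c' * y * c'⁻¹, normalizes ht hE c' hc' y hy, ?_⟩
    simp
  -- the intersection inside N
  let K : Subgroup N := (M.comap E.subtype).subgroupOf N
  haveI : (M.comap E.subtype).Normal := ⟨fun x hx g => hMn g (hE.2.1 g.2) x hx⟩
  haveI : K.Normal := inferInstanceAs ((M.comap E.subtype).subgroupOf N).Normal
  rcases (inferInstance : K.Normal).eq_bot_or_eq_top with h | h
  · exfalso
    have hMbot : M.comap E.subtype = ⊥ := by
      rw [eq_bot_iff, ← hNc]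
      intro m hm n hn
      have h1 : ⁅(⟨n, hn⟩ : N).1, m⁆ ∈ N ⊓ M.comap E.subtype :=
        Subgroup.commutator_le_inf _ _ (Subgroup.commutator_mem_commutator hn hm)
      have h2 : (⟨⁅n, m⁆, h1.1⟩ : N) ∈ K := h1.2
      rw [h, Subgroup.mem_bot] at h2
      exact commutatorElement_eq_one_iff_mul_comm.mp (congrArg Subtype.val h2)
    obtain ⟨a, ha⟩ := exists_ne (1 : N)
    have h3 : (⟨φ (a : E), hME ⟨(a : E), ⟨a, a.2, rfl⟩, rfl⟩⟩ : E) ∈ M.comap E.subtype := ⟨_, ⟨a, a.2, rfl⟩, rfl⟩
    rw [hMbot, Subgroup.mem_bot] at h3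
    have h4 : φ ((a : E) : G) = 1 := congrArg Subtype.val h3
    exact ha (Subtype.ext (Subtype.ext ((map_eq_one_iff φ φ.injective).mp h4)))
  · have hle : N' ≤ M := by
      rintro _ ⟨y, hy, rfl⟩
      exact (Subgroup.subgroupOf_eq_top.mp h) hy
    have heq : N' = M := Subgroup.eq_of_le_of_card_ge hle (Subgroup.card_map_of_injective φ.injective).le
    intro x hx
    rw [heq]
    exact ⟨x, hx, rfl⟩

end CfsgLib.JankoReeMult
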